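import Groth.Agent.FlatLift.RegSeq
import Mathlib

/-!
# Deformations of smooth algebras over artinian algebras are trivial
-/

set_option autoImplicit false
universe u

open TensorProduct IsLocalRing

namespace Groth.Agent.TrivDef

/-- A flat deformation `B` of a formally smooth `R` over a local artinian `k`-algebra is `A ⊗ R`. -/
theorem exists_algEquiv (k A R B : Type u) [Field k] [CommRing A] [IsLocalRing A] [IsArtinianRing A]
    [CommRing R] [CommRing B] [Algebra k A] [Algebra k R] [Algebra A B] [Algebra k B] [IsScalarTower k A B]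
    [Algebra.FormallySmooth k R] [Module.Flat A B] (e : A →ₐ[k] k) (π : B →ₐ[k] R)
    (hπ : Function.Surjective π)
    (hker : ∀ b : B, π b = 0 → b ∈ (maximalIdeal A).map (algebraMap A B))
    (he : ∀ a : A, π (algebraMap A B a) = algebraMap k R (e a)) :
    ∃ σ : R →ₐ[k] B, Function.Bijective
      (Algebra.TensorProduct.lift (Algebra.ofId A B) σ (fun _ _ => Commute.all _ _)) := by
  obtain ⟨n, hn⟩ : ∃ n, (maximalIdeal A) ^ n = ⊥ := by
    obtain ⟨n, hn⟩ := IsArtinianRing.isNilpotent_jacobson_bot (R := A)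
    refine ⟨n, ?_⟩
    rw [← IsLocalRing.jacobson_eq_maximalIdeal (⊥ : Ideal A) bot_ne_top]
    exact hn
  let P := (maximalIdeal A).map (algebraMap A B)
  have hP : P ^ n = ⊥ := by rw [← Ideal.map_pow, hn, Ideal.map_bot]
  have hme : RingHom.ker e.toRingHom = maximalIdeal A := by
    haveI : (RingHom.ker e.toRingHom).IsMaximal :=
      RingHom.ker_isMaximal_of_surjective _ (fun c => ⟨algebraMap k A c, e.commutes c⟩)
    exact IsLocalRing.eq_maximalIdeal inferInstance
  have hPπ : ∀ b ∈ P, π b = 0 := by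
    intro b hb
    refine (Ideal.map_le_iff_le_comap.2 ?_ hb : b ∈ RingHom.ker π.toRingHom)
    intro m hm
    show π (algebraMap A B m) = 0
    rw [he, show e m = 0 from (hme.symm ▸ hm : m ∈ RingHom.ker e.toRingHom), map_zero]
  have hnil : IsNilpotent (RingHom.ker (π : B →+* R)) := by
    refine ⟨n, le_bot_iff.1 (le_trans (Ideal.pow_right_mono (fun b hb => hker b hb) n) hP.le)⟩
  let σ : R →ₐ[k] B := Algebra.FormallySmooth.liftOfSurjective (AlgHom.id k R) π hπ hnil
  have hσ : ∀ r, π (σ r) = r := fun r =>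
    DFunLike.congr_fun (Algebra.FormallySmooth.comp_liftOfSurjective (AlgHom.id k R) π hπ hnil) r
  let Ψ : A ⊗[k] R →ₐ[A] B := Algebra.TensorProduct.lift (Algebra.ofId A B) σ (fun _ _ => Commute.all _ _)
  refine ⟨σ, ?_⟩
  have hsurj : Function.Surjective Ψ := by
    have key : ∀ m : ℕ, LinearMap.range Ψ.toLinearMap ⊔ (maximalIdeal A ^ m) • (⊤ : Submodule A B) = ⊤ := by
      intro m
      induction m with
      | zero => rw [pow_zero, Ideal.one_eq_top, Submodule.top_smul, sup_top_eq]
      | succ m ih =>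
        have h1 : LinearMap.range Ψ.toLinearMap ⊔ maximalIdeal A • (⊤ : Submodule A B) = ⊤ := by
          refine eq_top_iff.2 fun b _ => ?_
          have hb : b - σ (π b) ∈ maximalIdeal A • (⊤ : Submodule A B) := by
            rw [Ideal.smul_top_eq_map, Submodule.restrictScalars_mem]
            exact hker _ (by rw [map_sub, hσ, sub_self])
          rw [← add_sub_cancel (σ (π b)) b]
          exact Submodule.add_mem_sup ⟨1 ⊗ₜ π b, by simp [Ψ]⟩ hb
        refine eq_top_iff.2 ?_
        calc (⊤ : Submodule A B) = LinearMap.range Ψ.toLinearMap ⊔ (maximalIdeal A ^ m) • ⊤ := ih.symm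
          _ = LinearMap.range Ψ.toLinearMap ⊔ (maximalIdeal A ^ m) •
              (LinearMap.range Ψ.toLinearMap ⊔ maximalIdeal A • (⊤ : Submodule A B)) := by rw [h1]
          _ ≤ _ := by
            rw [Submodule.smul_sup, ← Submodule.mul_smul, ← pow_succ]
            exact sup_le le_sup_left (sup_le (Submodule.smul_le_right.trans le_sup_left) le_sup_right)
    intro b
    have := key n
    rw [hn, Submodule.bot_smul, sup_bot_eq] at this
    exact (this ▸ Submodule.mem_top : b ∈ LinearMap.range Ψ.toLinearMap)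
  refine ⟨?_, hsurj⟩
  haveI : Module.Flat A ((A ⊗[k] R) ⧸ RingHom.ker Ψ) :=
    Module.Flat.of_linearEquiv (Ideal.quotientKerAlgEquivOfSurjective hsurj).toLinearEquiv
  have hI := FlatLift.eq_span_of_flat (C := A) (A := A ⊗[k] R) (maximalIdeal A) hn (RingHom.ker Ψ)
    (r := 0) ![] (fun i => i.elim0) ?_
  · rw [injective_iff_map_eq_zero]
    intro x hx
    have hx' : x ∈ RingHom.ker Ψ := hx
    rw [hI, show Set.range (![] : Fin 0 → A ⊗[k] R) = ∅ from Set.range_eq_empty _, Ideal.span_empty] at hx'
    exact hx'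
  · rw [show Ideal.span (Set.range fun i : Fin 0 => (Ideal.Quotient.mk
      ((maximalIdeal A).map (algebraMap A (A ⊗[k] R)))) ((![] : Fin 0 → A ⊗[k] R) i)) = ⊥ by
      rw [Ideal.span_eq_bot]; rintro _ ⟨i, -⟩; exact i.elim0]
    rw [le_bot_iff, Ideal.map_eq_bot_iff_le_ker, Ideal.mk_ker]
    have hdec : ∀ x : A ⊗[k] R, ∃ r : R, x - 1 ⊗ₜ r ∈ (maximalIdeal A).map (algebraMap A (A ⊗[k] R)) := by
      intro x
      induction x using TensorProduct.induction_on with
      | zero => exact ⟨0, by simp⟩
      | tmul a r =>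
        refine ⟨e a • r, ?_⟩
        have : a ⊗ₜ[k] r - 1 ⊗ₜ (e a • r) =
            algebraMap A (A ⊗[k] R) (a - algebraMap k A (e a)) * (1 ⊗ₜ r) := by
          rw [Algebra.TensorProduct.algebraMap_apply, Algebra.TensorProduct.tmul_mul_tmul, one_mul,
            Algebra.algebraMap_self_apply, mul_one, sub_tmul, ← TensorProduct.smul_tmul,
            Algebra.algebraMap_eq_smul_one]
        rw [this]
        refine Ideal.mul_mem_right _ _ (Ideal.mem_map_of_mem _ ?_)
        rw [← hme]
        show e (a - algebraMap k A (e a)) = 0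
        simp
      | add x y hx hy =>
        obtain ⟨r, hr⟩ := hx
        obtain ⟨s, hs⟩ := hy
        exact ⟨r + s, by rw [tmul_add, add_sub_add_comm]; exact add_mem hr hs⟩
    intro x hx
    obtain ⟨r, hr⟩ := hdec x
    have h1 : π (Ψ (x - 1 ⊗ₜ r)) = 0 := by
      refine hPπ _ ?_
      have h2 := Ideal.mem_map_of_mem Ψ.toRingHom hr
      rw [Ideal.map_map] at h2
      rwa [show Ψ.toRingHom.comp (algebraMap A (A ⊗[k] R)) = algebraMap A B from Ψ.comp_algebraMap] at h2
    have h3 : r = 0 := by
      have hΨ : Ψ x = 0 := hx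
      rw [map_sub, hΨ, zero_sub, map_neg, neg_eq_zero] at h1
      have : Ψ (1 ⊗ₜ r) = σ r := by simp [Ψ]
      rwa [this, hσ] at h1
    rw [h3, tmul_zero, sub_zero] at hr
    exact hr

end Groth.Agent.TrivDef
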